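import Groth.Agent.Lib.StAlg16.SpectralPoints
import Groth.Agent.Lib.StAlg16.LocPInst
import Groth.Agent.Lib.StAlg16.LocQ
import Groth.Agent.Lib.StAlg16.LocQApps
import Groth.Agent.Lib.GerbBand16.Atlas
import Groth.Agent.S4450

/-!
# Specializations in Noetherian stacks are realized by discrete valuation rings
-/

universe u

open CategoryTheory CategoryTheory.Functor CategoryTheory.Limits AlgebraicGeometry Opposite

set_option linter.style.haveILetI false
set_option linter.unusedSectionVars false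
set_option backward.isDefEq.respectTransparency false
set_option backward.isDefEq.respectTransparency.types false

namespace Groth.Agent.StDVR16

open Groth.Agent.FC16 hiding overMap
open Groth.Agent.StAlg Groth.Agent.StAlg16 AlgSt Groth.Agent.PtSet

variable {S : Scheme.{u}} {𝒳 𝒴 : AlgSt.Cat S}

theorem ofChart_comp_apply {U : Over S} (x : FibCat.overCat U ⥤ᵇ 𝒳) (f : 𝒳 ⥤ᵇ 𝒴) (t : U.left) :
    Points.ofChart (BasedFunctor.comp x f) t = Points.map f (Points.ofChart x t) := by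
  rw [ofChart_eq, StAlg16.map_comp_apply, ← ofChart_eq]

theorem isQuasiCompactSp_yon (V : Over S) [CompactSpace ↥V.left] :
    AlgSp.IsQuasiCompactSp ((AlgSp.yon S).obj V) := by
  refine ⟨V, 𝟙 _, ?_, ?_, inferInstance⟩
  · rw [← (AlgSp.yon S).map_id]; exact (AlgSp.repWith_yon_map_iff _ _).2 (inferInstanceAs (Etale (𝟙 V.left)))
  · rw [← (AlgSp.yon S).map_id]; exact (AlgSp.repWith_yon_map_iff _ _).2 (inferInstanceAs (Surjective (𝟙 V.left)))

/-- the relation of an affine chart of a stack with quasi-compact diagonal has an affine chart -/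
theorem exists_rel_chart [QuasiSeparatedSpace S] (h𝒴 : FibCat.IsFibGrpd 𝒴.p)
    (hΔ : AlgSt.RepByAlgSpWith AlgSp.IsQuasiCompactMor (FibCat.diag (FibCat.toSelf 𝒴)))
    {V : Over S} [IsAffine V.left] (y : FibCat.overCat V ⥤ᵇ 𝒴) :
    ∃ (W : Over S) (b₁ b₂ : W ⟶ V), IsAffine W.left ∧
      ∀ a c : V.left, Points.ofChart y a = Points.ofChart y c ↔ ∃ w, b₁.left w = a ∧ b₂.left w = c := by
  haveI : QuasiCompact V.hom := inferInstance
  let k : V ⟶ Bootst16.selfPt S := Over.homMk V.hom (Category.comp_id _)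
  have hk : AlgSp.IsQuasiCompactMor ((AlgSp.yon S).map k) := by
    have h := (AlgSp.repWith_yon_map_iff @QuasiCompact k).2 (inferInstanceAs (QuasiCompact V.hom))
    exact (AlgSpace.repWith_quasiCompact_iff (AlgSp.IsAlgSpace.yon_obj _) (AlgSp.IsAlgSpace.yon_obj _) h.1).1 h
  have hV : AlgSt.RepByAlgSpWith AlgSp.IsQuasiCompactMor (AlgSt.overMap k) :=
    (with_congr (f := AlgSt.overMap k) (a := AlgSt.toOverCat V) (b := AlgSt.toOverCat _)
      (toOverCat_isEquivOver V) (toOverCat_isEquivOver _) (overMapIso k)).2 (with_ofPshMap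
        (repBySpWith_of_space (fun _ _ _ _ _ _ _ _ _ _ _ _ sq ha => AlgSpace.isQuasiCompactMor_of_isPullback sq ha)
          (AlgSp.IsAlgSpace.yon_obj V) (AlgSp.IsAlgSpace.yon_obj _) hk))
  have hy : AlgSt.RepByAlgSpWith AlgSp.IsQuasiCompactMor y :=
    GerbBand16.with_of_diag goodP_isQuasiCompactMor h𝒴 hΔ y (GerbBand16.with_toSelf_of_overMap hV)
  obtain ⟨F, e, he, ha⟩ := hy V y
  have hFqc : AlgSp.IsQuasiCompactSp F.obj :=
    ha (AlgSp.IsAlgSpace.yon_obj V) (isQuasiCompactSp_yon V) (𝟙 _) (𝟙 _)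
      (spMapOfOver (BasedFunctor.comp e (FibCat.fpFst y y)))
      (IsPullback.of_horiz_isIso ⟨by simp⟩)
  have hR : IsAlgStack Scheme.fppfPrecoverage (FibCat.fp y y) := (isDM_of_rep ⟨F, e, he⟩).1
  have gR := hR.isStack.1
  have hesm : AlgSt.RepByAlgSpWith (AlgSp.LocP @Smooth) e :=
    (with_congr (f := e) (f' := BasedFunctor.id (AlgSt.ofSp F.obj)) (a := BasedFunctor.id _) (b := e) isEquivOver_id he
      (Iso.refl _)).2 (with_id_ofSp F.property)
  have hq : AlgSt.IsQuasiCompact (FibCat.fp y y) :=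
    (isQuasiCompact_iff_space_chart hR).2 ⟨F, e, hFqc, hesm,
      with_surjective_of_isSurjective (Stk.isFibGrpd_ofPsh _) gR (repByAlgSp1_of_with hesm) (map_bijective he).2⟩
  obtain ⟨W, c, hW, -, hcs⟩ := hq
  obtain ⟨b₁, ⟨j₁⟩⟩ := exists_overMap_iso (BasedFunctor.comp c (FibCat.fpFst y y))
  obtain ⟨b₂, ⟨j₂⟩⟩ := exists_overMap_iso (BasedFunctor.comp c (FibCat.fpSnd y y))
  have hk₁ : ∀ w : W.left, Points.map (FibCat.fpFst y y) (Points.ofChart c w) =
      Points.mk (chartPt V (b₁.left w)) := fun w => by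
    rw [ofChart_eq, ← StAlg16.map_comp_apply, map_eq_map_of_iso j₁, map_overMap_chartPt]
  have hk₂ : ∀ w : W.left, Points.map (FibCat.fpSnd y y) (Points.ofChart c w) =
      Points.mk (chartPt V (b₂.left w)) := fun w => by
    rw [ofChart_eq, ← StAlg16.map_comp_apply, map_eq_map_of_iso j₂, map_overMap_chartPt]
  refine ⟨W, b₁, b₂, hW, fun a c' => ⟨fun h => ?_, ?_⟩⟩
  · obtain ⟨z, hz₁, hz₂⟩ := exists_fp_point (overCat_isFibGrpd V) h𝒴 (overCat_isFibGrpd V) y y
      (Points.mk (chartPt V a)) (Points.mk (chartPt V c')) (by rw [← ofChart_eq, ← ofChart_eq, h])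
    obtain ⟨w, rfl⟩ := surjective_ofChart gR hcs z
    refine ⟨w, ?_, ?_⟩
    · rw [hk₁] at hz₁
      rw [← ptOf_chartPt (U := V) (b₁.left w), hz₁, ptOf_chartPt]
    · rw [hk₂] at hz₂
      rw [← ptOf_chartPt (U := V) (b₂.left w), hz₂, ptOf_chartPt]
  · rintro ⟨w, rfl, rfl⟩
    rw [ofChart_eq, ofChart_eq, ← hk₁, ← hk₂, ← StAlg16.map_comp_apply, ← StAlg16.map_comp_apply,
      map_eq_map_of_iso (FibCat.fpIso y y)]

/-- generalizations lift along affine smooth charts -/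
theorem exists_generalization [QuasiSeparatedSpace S] (h𝒴 : FibCat.IsFibGrpd 𝒴.p)
    (hΔ : AlgSt.RepByAlgSpWith AlgSp.IsQuasiCompactMor (FibCat.diag (FibCat.toSelf 𝒴)))
    {V : Over S} [IsAffine V.left] (y : FibCat.overCat V ⥤ᵇ 𝒴)
    (ho : IsOpenMap (Points.ofChart y)) (hs : Function.Surjective (Points.ofChart y))
    {z : AlgSt.Points 𝒴} {v : V.left} (h : z ⤳ Points.ofChart y v) :
    ∃ v', v' ⤳ v ∧ Points.ofChart y v' = z := by
  obtain ⟨v₁, rfl⟩ := hs z
  obtain ⟨W, b₁, b₂, hW, hrel⟩ := exists_rel_chart h𝒴 hΔ y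
  haveI := spectralSpace_affine V.left
  haveI := spectralSpace_affine W.left
  let E : Set V.left := b₂.left '' (b₁.left ⁻¹' {v₁})
  have hE : IsClosed (toPatch E) := by
    refine isClosed_toPatch_image (Scheme.Hom.isSpectralMap b₂.left)
      (isClosed_toPatch_preimage (Scheme.Hom.isSpectralMap b₁.left) ?_)
    have : toPatch ({v₁} : Set V.left) = {WithTopology.toTopology _ v₁} := by
      ext a
      exact ⟨fun h => WithTopology.ofTopology_injective _ h, fun h => by rw [h]; rfl⟩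
    rw [this]
    exact isClosed_singleton
  have hcl : v ∈ closure E := by
    rw [mem_closure_iff]
    intro O hO hvO
    obtain ⟨o, hoO, he⟩ := h.mem_open (ho O hO) ⟨v, hvO, rfl⟩
    obtain ⟨w, hw₁, hw₂⟩ := (hrel v₁ o).1 he.symm
    exact ⟨o, hoO, w, hw₁, hw₂⟩
  obtain ⟨v', ⟨w, hw, rfl⟩, hv'⟩ := exists_specializes_of_mem_closure hE hcl
  exact ⟨_, hv', ((hrel v₁ (b₂.left w)).2 ⟨w, hw, rfl⟩).symm⟩

/-- a point of a stack over a point of a chart of the target lifts to a scheme locally of finite type over it -/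
theorem exists_lift (h𝒳 : FibCat.IsFibGrpd 𝒳.p) (h𝒴 : FibCat.IsFibGrpd 𝒴.p)
    (hΔ : AlgSt.RepByAlgSp1 (FibCat.diag (FibCat.toSelf 𝒴)))
    (hA : AlgSt.HasAtlas (AlgSp.LocP @Smooth) 𝒳) {f : 𝒳 ⥤ᵇ 𝒴}
    (hf : AlgSt.LocQ (AlgSp.LocP @LocallyOfFiniteType) f) {V : Over S} (y : FibCat.overCat V ⥤ᵇ 𝒴)
    (hy : AlgSt.RepByAlgSpWith (AlgSp.LocP @Smooth) y) (x : AlgSt.Points 𝒳) (v : V.left)
    (hv : Points.ofChart y v = Points.map f x) :
    ∃ (W : Over S) (b : W ⟶ V) (ξ : FibCat.overCat W ⥤ᵇ 𝒳) (t : W.left),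
      LocallyOfFiniteType b.left ∧ b.left t = v ∧ Points.ofChart ξ t = x ∧
      Nonempty (BasedFunctor.comp ξ f ≅ BasedFunctor.comp (AlgSt.overMap b) y) := by
  obtain ⟨U, xU, hxU, hxs⟩ := hA
  obtain ⟨W, w, hw, hws⟩ := exists_fp_chart h𝒴 y ((rep1_diag_iff h𝒴).1 hΔ U (BasedFunctor.comp xU f))
  obtain ⟨E', hE', -, -⟩ := exists_inverse (pasteR_isEquivOver y f xU)
  let c := BasedFunctor.comp w (BasedFunctor.comp E' (FibCat.fpFst (FibCat.fpSnd y f) xU))
  have gXf := fp_isFibGrpd (overCat_isFibGrpd V) (overCat_isFibGrpd U) h𝒴 y (BasedFunctor.comp xU f)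
  have gP := fp_isFibGrpd (overCat_isFibGrpd V) h𝒳 h𝒴 y f
  have hc : AlgSt.RepByAlgSpWith (AlgSp.LocP @Smooth) c :=
    with_comp goodP_locP (overCat_isFibGrpd W) gXf (hw @Smooth) (with_comp_equiv hE' (with_fpFst _ hxU))
  have hcs : AlgSt.RepByAlgSpWith AlgSp.IsSurjectiveMor c :=
    with_comp goodP_surjective (overCat_isFibGrpd W) gXf hws (with_comp_equiv hE' (with_fpFst _ hxs))
  obtain ⟨b, ⟨j⟩⟩ := exists_overMap_iso (BasedFunctor.comp c (FibCat.fpFst y f))
  have hb : LocallyOfFiniteType b.left :=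
    (locP_yon_iff b).1 (of_locQ isSmoothLocalST_lft h𝒳 h𝒴 hf hy j hc)
  obtain ⟨z, hz₁, hz₂⟩ := exists_fp_point h𝒳 h𝒴 (overCat_isFibGrpd V) f y (Points.mk (chartPt V v)) x
    (by rw [← ofChart_eq, hv])
  obtain ⟨t, rfl⟩ := surjective_ofChart gP hcs z
  refine ⟨W, b, BasedFunctor.comp c (FibCat.fpSnd y f), t, hb, ?_, ?_,
    ⟨(wlIso c (FibCat.fpIso y f)).symm ≪≫ wrIso j y⟩⟩
  · have h : Points.map (FibCat.fpFst y f) (Points.ofChart c t) = Points.mk (chartPt V (b.left t)) := by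
      rw [ofChart_eq, ← StAlg16.map_comp_apply, map_eq_map_of_iso j, map_overMap_chartPt]
    rw [← ptOf_chartPt (U := V) (b.left t), ← h, hz₁, ptOf_chartPt]
  · rw [ofChart_comp_apply, hz₂]

/-- a valuation ring mapped compatibly to a chart and a lift gives the required diagram -/
theorem realize {f : 𝒳 ⥤ᵇ 𝒴} {W V : Over S} (b : W ⟶ V) (ξ : FibCat.overCat W ⥤ᵇ 𝒳) (y : FibCat.overCat V ⥤ᵇ 𝒴)
    (i : BasedFunctor.comp ξ f ≅ BasedFunctor.comp (AlgSt.overMap b) y) {x : AlgSt.Points 𝒳} {y₀ : AlgSt.Points 𝒴}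
    {t : W.left} (ht : Points.ofChart ξ t = x) {v : V.left} (hv : Points.ofChart y v = y₀)
    (R : Type u) [CommRing R] [IsDomain R] [IsDiscreteValuationRing R]
    (g : Spec (CommRingCat.of (FractionRing R)) ⟶ W.left) (h : Spec (CommRingCat.of R) ⟶ V.left)
    (w : g ≫ b.left = Spec.map (CommRingCat.ofHom (algebraMap R (FractionRing R))) ≫ h)
    (hg : ∀ p, g p = t) (hh : h (IsLocalRing.closedPoint R) = v) :
    ∃ (R : Type u) (_ : CommRing R) (_ : IsDomain R) (_ : IsDiscreteValuationRing R)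
      (sR : Spec (CommRingCat.of R) ⟶ S)
      (a : FibCat.overCat (Over.mk (Spec.map (CommRingCat.ofHom (algebraMap R (FractionRing R))) ≫ sR)) ⥤ᵇ 𝒳)
      (b : FibCat.overCat (Over.mk sR) ⥤ᵇ 𝒴),
      Nonempty (BasedFunctor.comp a f ≅
        BasedFunctor.comp (AlgSt.overMap (Over.homMk (Spec.map (CommRingCat.ofHom (algebraMap R (FractionRing R)))) rfl :
          Over.mk (Spec.map (CommRingCat.ofHom (algebraMap R (FractionRing R))) ≫ sR) ⟶ Over.mk sR)) b) ∧
      (∀ p, AlgSt.Points.ofChart a p = x) ∧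
      AlgSt.Points.ofChart b (IsLocalRing.closedPoint R) = y₀ := by
  let sR := h ≫ V.hom
  let e : Over.mk (Spec.map (CommRingCat.ofHom (algebraMap R (FractionRing R))) ≫ sR) ⟶ Over.mk sR :=
    Over.homMk (Spec.map (CommRingCat.ofHom (algebraMap R (FractionRing R)))) rfl
  let hR : Over.mk sR ⟶ V := Over.homMk h rfl
  let gK : Over.mk (Spec.map (CommRingCat.ofHom (algebraMap R (FractionRing R))) ≫ sR) ⟶ W := Over.homMk g (by
    show g ≫ W.hom = _
    rw [← Over.w b, ← Category.assoc, w, Category.assoc]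
    rfl)
  have hcomm : gK ≫ b = e ≫ hR := Over.OverMorphism.ext w
  refine ⟨R, inferInstance, inferInstance, inferInstance, sR, BasedFunctor.comp (AlgSt.overMap gK) ξ,
    BasedFunctor.comp (AlgSt.overMap hR) y,
    ⟨wlIso (AlgSt.overMap gK) i ≪≫ wrIso (overMapComp gK b ≪≫ eqToIso (congrArg AlgSt.overMap hcomm) ≪≫
      (overMapComp e hR).symm) y⟩, fun p => ?_, ?_⟩
  · rw [ofChart_overMap, ← ht]
    exact congrArg _ (hg p)
  · rw [ofChart_overMap, ← hv]
    exact congrArg _ hh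

theorem main [QuasiSeparatedSpace S] (h𝒳 : AlgSt.IsAlgStack Scheme.etalePrecoverage 𝒳)
    (h𝒴 : AlgSt.IsAlgStack Scheme.etalePrecoverage 𝒴)
    (hn : AlgSt.SmoothLocally (fun T => IsLocallyNoetherian T) 𝒴) (hq : AlgSt.IsQuasiCompact 𝒴)
    (hqs : AlgSt.IsQuasiSeparatedOver 𝒴)
    (f : 𝒳 ⥤ᵇ 𝒴) (hft : AlgSt.LocQ (AlgSp.LocP @LocallyOfFiniteType) f)
    (x : AlgSt.Points 𝒳) (y₀ : AlgSt.Points 𝒴) (hsp : AlgSt.Points.map f x ⤳ y₀) :
    ∃ (R : Type u) (_ : CommRing R) (_ : IsDomain R) (_ : IsDiscreteValuationRing R)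
      (sR : Spec (CommRingCat.of R) ⟶ S)
      (a : FibCat.overCat (Over.mk (Spec.map (CommRingCat.ofHom (algebraMap R (FractionRing R))) ≫ sR)) ⥤ᵇ 𝒳)
      (b : FibCat.overCat (Over.mk sR) ⥤ᵇ 𝒴),
      Nonempty (BasedFunctor.comp a f ≅
        BasedFunctor.comp (AlgSt.overMap (Over.homMk (Spec.map (CommRingCat.ofHom (algebraMap R (FractionRing R)))) rfl :
          Over.mk (Spec.map (CommRingCat.ofHom (algebraMap R (FractionRing R))) ≫ sR) ⟶ Over.mk sR)) b) ∧
      (∀ p, AlgSt.Points.ofChart a p = x) ∧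
      AlgSt.Points.ofChart b (IsLocalRing.closedPoint R) = y₀ := by
  have gX := h𝒳.isStack.1
  have gY := h𝒴.isStack.1
  obtain ⟨V, y, hV, hy, hys⟩ := hq
  haveI := hV
  haveI : IsLocallyNoetherian V.left := hn V y hy
  have hs := surjective_ofChart gY hys
  have ho := isOpenMap_ofChart gY (with_locP_mono smooth_le_flat hy) (with_locP_mono smooth_le_lfp hy)
  obtain ⟨v, rfl⟩ := hs y₀
  obtain ⟨v', hv', hvx⟩ := exists_generalization gY
    (repByAlgSpWith_mono (fun _ _ _ _ h => h.1) hqs) y ho hs hsp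
  obtain ⟨W, b, ξ, t, hb, hbt, ht, ⟨i⟩⟩ := exists_lift gX gY h𝒴.diag h𝒳.atlas hft y hy x v' hvx
  haveI := hb
  subst hbt
  by_cases hne : v = b.left t
  · let k : Type u := W.left.residueField t
    let R : Type u := PowerSeries k
    let φ : k →+* FractionRing R := (algebraMap R (FractionRing R)).comp PowerSeries.C
    refine realize b ξ y i ht rfl R
      (Spec.map (CommRingCat.ofHom φ) ≫ W.left.fromSpecResidueField t)
      (Spec.map (CommRingCat.ofHom (PowerSeries.C : k →+* R)) ≫ W.left.fromSpecResidueField t ≫ b.left)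
      ?_ (fun p => ?_) ?_
    · rw [← Category.assoc, ← Category.assoc, ← Spec.map_comp, Category.assoc]
      rfl
    · rw [Scheme.Hom.comp_apply]; exact W.left.fromSpecResidueField_apply t _
    · rw [Scheme.Hom.comp_apply, Scheme.Hom.comp_apply]; exact (congrArg b.left (W.left.fromSpecResidueField_apply t _)).trans hne.symm
  · obtain ⟨A, h, hA, hh, hc⟩ := Groth.Agent.S4450.result b.left t v hv' hne
    haveI := hA
    let e : FractionRing A ≃ₐ[A] W.left.residueField t := FractionRing.algEquiv A _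
    refine realize b ξ y i ht rfl A
      (Spec.map (CommRingCat.ofHom e.symm.toRingEquiv.toRingHom) ≫ W.left.fromSpecResidueField t) h
      ?_ (fun p => ?_) hh
    · rw [Category.assoc]
      refine (congrArg (fun q => Spec.map (CommRingCat.ofHom e.symm.toRingEquiv.toRingHom) ≫ q) hc.symm).trans ?_
      rw [← Category.assoc, ← Spec.map_comp]
      congr 2
      ext a
      exact e.symm.commutes a
    · rw [Scheme.Hom.comp_apply]; exact W.left.fromSpecResidueField_apply t _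

end Groth.Agent.StDVR16
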